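import Groth.Prelude.Def_SpSeq
import Mathlib.Algebra.Homology.ShortComplex.QuasiIso
import Mathlib.Algebra.Homology.QuasiIso
import Mathlib.Order.Interval.Finset.Defs
import Mathlib.Data.Int.Interval

/-! # Filtered complexes with finite filtrations -/

set_option autoImplicit false

universe v u

open CategoryTheory CategoryTheory.Limits

namespace GrothLib.SpSeqFin25

variable {A : Type u} [Category.{v} A] [Abelian A]

theorem isZero_subquot_of_eq {X : A} {Z B : Subobject X} (h : B ≤ Z) (e : B = Z) : IsZero (SpSeq.subquot Z B h) := by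
  subst e
  have : IsIso (B.ofLE B h) := by rw [Subobject.ofLE_refl]; infer_instance
  exact isZero_cokernel_of_epi _

theorem isZero_E_of_eq (K : SpSeq.FilCx A) (r : ℕ) (p n : ℤ) (h : K.filX p n ≤ K.filX (p + 1) n) :
    IsZero (K.E r p n) := by
  refine isZero_subquot_of_eq _ ?_
  rw [SpSeq.FilCx.BSub, SpSeq.FilCx.ZSub, sup_eq_right.2 (inf_le_left.trans h),
    sup_eq_right.2 (inf_le_left.trans h)]

theorem eq_top_of_le (K : SpSeq.FilCx A) {n a p : ℤ} (ha : K.filX a n = ⊤) (hp : p ≤ a) : K.filX p n = ⊤ :=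
  top_le_iff.1 (ha.ge.trans (K.filX_anti n hp))

theorem eq_bot_of_le (K : SpSeq.FilCx A) {n b p : ℤ} (hb : K.filX b n = ⊥) (hp : b ≤ p) : K.filX p n = ⊥ :=
  le_bot_iff.1 ((K.filX_anti n hp).trans hb.le)

variable (K : SpSeq.FilCx A) (hK : ∀ n : ℤ, (K.XFil n).IsFinite)

include hK in
theorem isBounded : K.IsBounded 0 := fun n => by
  obtain ⟨⟨a, ha⟩, b, hb⟩ := hK n
  refine ((Finset.Ico a b).finite_toSet).subset fun p hp => Finset.mem_coe.2 (Finset.mem_Ico.2 ⟨?_, ?_⟩)
  · by_contra h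
    exact hp (isZero_E_of_eq K 0 p n (le_top.trans (eq_top_of_le K ha (by omega)).ge))
  · by_contra h
    exact hp (isZero_E_of_eq K 0 p n ((eq_bot_of_le K hb (by omega)).le.trans bot_le))

include hK in
theorem exists_filH_top (n : ℤ) : ∃ a, K.filH a n = ⊤ := by
  obtain ⟨⟨a₁, h₁⟩, -⟩ := hK (n - 1)
  obtain ⟨⟨a₂, h₂⟩, -⟩ := hK n
  obtain ⟨⟨a₃, h₃⟩, -⟩ := hK (n + 1)
  let a := min a₁ (min a₂ a₃)
  refine ⟨a, ?_⟩
  have hi : ∀ (m c : ℤ), K.filX c m = ⊤ → a ≤ c → IsIso ((K.fil a).arrow.f m) := fun m c hc hle =>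
    (Subobject.isIso_iff_mk_eq_top _).2 (eq_top_of_le K hc hle)
  have i1 := hi (n - 1) a₁ h₁ (min_le_left _ _)
  have i2 := hi n a₂ h₂ ((min_le_right _ _).trans (min_le_left _ _))
  have i3 := hi (n + 1) a₃ h₃ ((min_le_right _ _).trans (min_le_right _ _))
  let φ := K.fil a |>.arrow
  have : QuasiIsoAt φ n := by
    rw [quasiIsoAt_iff' φ (n - 1) n (n + 1) (by simp) (by simp)]
    have : Epi ((HomologicalComplex.shortComplexFunctor' A (ComplexShape.up ℤ) (n - 1) n (n + 1)).map φ).τ₁ :=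
      @IsIso.epi_of_iso _ _ _ _ _ i1
    have : IsIso ((HomologicalComplex.shortComplexFunctor' A (ComplexShape.up ℤ) (n - 1) n (n + 1)).map φ).τ₂ := i2
    have : Mono ((HomologicalComplex.shortComplexFunctor' A (ComplexShape.up ℤ) (n - 1) n (n + 1)).map φ).τ₃ :=
      @IsIso.mono_of_iso _ _ _ _ _ i3
    exact ShortComplex.quasiIso_of_epi_of_isIso_of_mono _
  have hiso : IsIso (HomologicalComplex.homologyMap (K.fil a).arrow n) :=
    (quasiIsoAt_iff_isIso_homologyMap φ n).1 this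
  have hA : IsIso (K.filH a n).arrow := by
    have : Epi (K.filH a n).arrow := by
      have h := imageSubobject_arrow_comp (HomologicalComplex.homologyMap (K.fil a).arrow n)
      exact epi_of_epi_fac h
    exact isIso_of_mono_of_epi _
  exact Subobject.eq_top_of_isIso_arrow _

include hK in
theorem exists_filH_bot (n : ℤ) : ∃ b, K.filH b n = ⊥ := by
  obtain ⟨-, b, hb⟩ := hK n
  refine ⟨b, ?_⟩
  have h0 : (K.fil b).arrow.f n = 0 := Subobject.mk_eq_bot_iff_zero.1 hb
  have : HomologicalComplex.homologyMap (K.fil b).arrow n = 0 := by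
    rw [← cancel_epi ((K.fil b : CochainComplex A ℤ).homologyπ n), HomologicalComplex.homologyπ_naturality, comp_zero]
    have : HomologicalComplex.cyclesMap (K.fil b).arrow n = 0 := by
      rw [← cancel_mono (K.obj.iCycles n), HomologicalComplex.cyclesMap_i, h0, comp_zero, zero_comp]
    rw [this, zero_comp]
  refine le_bot_iff.1 (imageSubobject_le _ (0 : _ ⟶ ((⊥ : Subobject (K.obj.homology n)) : A)) ?_)
  rw [zero_comp, this]

include hK in
theorem isFinite_HFil (n : ℤ) : (K.HFil n).IsFinite :=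
  ⟨exists_filH_top K hK n, exists_filH_bot K hK n⟩

theorem pullback_bot {X Y : A} (f : X ⟶ Y) : (Subobject.pullback f).obj ⊥ = kernelSubobject f := by
  refine le_antisymm (le_kernelSubobject _ _ ?_) (SpSeq.FilCx.kernelSubobject_le_pullback f ⊥)
  rw [← (Subobject.isPullback f ⊥).w, Subobject.bot_arrow, comp_zero]

include hK in
theorem ZSub_eventually (p n : ℤ) : ∃ r₀ : ℕ, ∀ r, r₀ ≤ r → K.ZSub r p n = K.ZTop p n := by
  obtain ⟨-, b, hb⟩ := hK (n + 1)
  refine ⟨(b - p).toNat, fun r hr => ?_⟩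
  rw [SpSeq.FilCx.ZSub, eq_bot_of_le K hb (by omega), pullback_bot]
  rfl

theorem ZTop_le (r : ℕ) (p n : ℤ) : K.ZTop p n ≤ K.ZSub r p n :=
  sup_le_sup_right (inf_le_inf_left _ (SpSeq.FilCx.kernelSubobject_le_pullback _ _)) _

include hK in
theorem BSub_eventually (p n : ℤ) : ∃ r₀ : ℕ, ∀ r, r₀ ≤ r → K.BSub r p n = K.BBot p n := by
  obtain ⟨⟨a, ha⟩, -⟩ := hK (n - 1)
  refine ⟨(p + 1 - a).toNat, fun r hr => ?_⟩
  have : IsIso (K.filX (p - r + 1) (n - 1)).arrow :=
    (Subobject.isIso_arrow_iff_eq_top _).2 (eq_top_of_le K ha (by omega : p - r + 1 ≤ a))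
  rw [SpSeq.FilCx.BSub, imageSubobject_iso_comp]
  rfl

theorem le_BBot (r : ℕ) (p n : ℤ) : K.BSub r p n ≤ K.BBot p n :=
  sup_le_sup_right (inf_le_inf_left _ (imageSubobject_comp_le _ _)) _

include hK in
theorem weaklyConverges : K.WeaklyConverges := fun p n => by
  obtain ⟨r₁, h₁⟩ := ZSub_eventually K hK p n
  obtain ⟨r₂, h₂⟩ := BSub_eventually K hK p n
  exact ⟨IsLeast.isGLB ⟨⟨r₁, h₁ r₁ le_rfl⟩, by rintro _ ⟨r, rfl⟩; exact ZTop_le K r p n⟩,
    IsGreatest.isLUB ⟨⟨r₂, h₂ r₂ le_rfl⟩, by rintro _ ⟨r, rfl⟩; exact le_BBot K r p n⟩⟩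

theorem isComplete_of_isDiscrete (L : SpSeq.FilObj A) (h : L.IsDiscrete) : L.IsComplete := by
  intro T f hf
  obtain ⟨b, hb⟩ := h
  have : IsIso (cokernel.π (L.fil b).arrow) := by
    have h0 : (L.fil b).arrow = 0 := by
      rw [hb]; exact Subobject.bot_arrow
    have : Mono (cokernel.π (L.fil b).arrow) := (Preadditive.mono_of_cancel_zero _ fun g hg => by
      exact (Abelian.monoLift_comp (L.fil _).arrow g hg).symm.trans ((congrArg (_ ≫ ·) h0).trans comp_zero))
    exact isIso_of_mono_of_epi _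
  refine ⟨f b ≫ inv (cokernel.π (L.fil b).arrow), fun p => ?_⟩
  rcases le_total p b with hp | hp
  · rw [← hf p b hp]
    rw [Category.assoc]
    congr 1
    rw [IsIso.inv_comp_eq]
    exact (cokernel.π_desc _ _ _).symm
  · have e : cokernel.π (L.fil p).arrow ≫ L.quotMap hp = cokernel.π (L.fil b).arrow := cokernel.π_desc _ _ _
    have : Mono (L.quotMap hp) := by
      have h0 : (L.fil p).arrow = 0 := by
        rw [le_bot_iff.1 ((L.anti hp).trans hb.le)]; exact Subobject.bot_arrow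
      have : Mono (cokernel.π (L.fil p).arrow) := (Preadditive.mono_of_cancel_zero _ fun g hg => by
      exact (Abelian.monoLift_comp (L.fil _).arrow g hg).symm.trans ((congrArg (_ ≫ ·) h0).trans comp_zero))
      have : IsIso (cokernel.π (L.fil p).arrow) := isIso_of_mono_of_epi _
      have e' : L.quotMap hp = inv (cokernel.π (L.fil p).arrow) ≫ cokernel.π (L.fil b).arrow := by
        rw [← e, IsIso.inv_hom_id_assoc]
      rw [e']; infer_instance
    rw [← cancel_mono (L.quotMap hp), Category.assoc, e, Category.assoc, IsIso.inv_hom_id, Category.comp_id,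
      hf b p hp]

include hK in
theorem converges : K.Converges := by
  refine ⟨fun p n => ?_, ⟨weaklyConverges K hK, fun n => ⟨?_, ?_⟩⟩, fun n => ?_⟩
  · obtain ⟨r₀, h⟩ := ZSub_eventually K hK p n
    exact ⟨r₀, fun r hr => (h r hr).trans (h r₀ le_rfl).symm⟩
  · obtain ⟨b, hb⟩ := exists_filH_bot K hK n
    exact IsLeast.isGLB ⟨⟨b, hb⟩, fun _ _ => bot_le⟩
  · obtain ⟨a, ha⟩ := exists_filH_top K hK n
    exact IsGreatest.isLUB ⟨⟨a, ha⟩, fun _ _ => le_top⟩
  · exact isComplete_of_isDiscrete _ (exists_filH_bot K hK n)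

end GrothLib.SpSeqFin25
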